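import Groth.Agent.L10.ShriekLoc.SuppTools

/-!
Serre conditions at a prime disjoint from a multiplicative subset.
-/

set_option autoImplicit false
set_option linter.style.haveILetI false

universe u

open L02.FibDepth

noncomputable section

namespace Groth.Lead.CMPoint

variable {R : Type u} [CommRing R] (S : Submonoid R) (M : Type u) [AddCommGroup M] [Module R M] [Module.Finite R M]

/-- localizing twice -/
theorem invariants_localized (P' : Ideal (Localization S)) [P'.IsPrime] (P : Ideal R) [P.IsPrime]
    (hP : P'.comap (algebraMap R (Localization S)) = P) :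
    Module.supportDim (Localization.AtPrime P') (LocalizedModule P'.primeCompl (LocalizedModule S M)) =
        Module.supportDim (Localization.AtPrime P) (LocalizedModule P.primeCompl M) ∧
      LocCoh.depth (Localization.AtPrime P') (LocalizedModule P'.primeCompl (LocalizedModule S M)) =
        LocCoh.depth (Localization.AtPrime P) (LocalizedModule P.primeCompl M) := by
  subst hP
  let B := Localization S
  let MB := LocalizedModule S M
  let P := P'.comap (algebraMap R B)
  let L := Localization.AtPrime P'
  haveI : IsLocalization.AtPrime L P :=
    IsLocalization.isLocalization_isLocalization_atPrime_isLocalization S L P'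
  let m := LocalizedModule.mkLinearMap S M
  let m' := LocalizedModule.mkLinearMap P'.primeCompl MB
  let c : M →ₗ[R] LocalizedModule P'.primeCompl MB := (m'.restrictScalars R).comp m
  have hc : IsLocalizedModule P.primeCompl c :=
    (isLocalizedModule_iff_isBaseChange P.primeCompl L c).2
      ((IsLocalizedModule.isBaseChange S B m).comp (IsLocalizedModule.isBaseChange P'.primeCompl L m'))
  haveI := hc
  let ψ : L ≃ₐ[R] Localization.AtPrime P := IsLocalization.algEquiv P.primeCompl L (Localization.AtPrime P)
  let g : LocalizedModule P'.primeCompl MB ≃ₗ[R] LocalizedModule P.primeCompl M := (IsLocalizedModule.iso P.primeCompl c).symm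
  let E : L02.FibDepth.Semi L (LocalizedModule P'.primeCompl MB) (Localization.AtPrime P) (LocalizedModule P.primeCompl M) :=
    { φ := ψ.toRingEquiv.toRingHom
      surj := ψ.surjective
      e := g.toAddEquiv
      map_smul := fun x v => by
        obtain ⟨r, s, rfl⟩ := IsLocalization.exists_mk'_eq P.primeCompl x
        have hu := (Module.End.isUnit_iff _).1
          (IsLocalizedModule.map_units (LocalizedModule.mkLinearMap P.primeCompl M) s)
        refine hu.1 ?_
        show (s : R) • g (IsLocalization.mk' L r s • v) = (s : R) • (ψ (IsLocalization.mk' L r s) • g v)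
        rw [← map_smul g, ← smul_assoc, ← smul_assoc, Algebra.smul_def, IsLocalization.mk'_spec', algebraMap_smul,
          map_smul, Algebra.smul_def, ← AlgEquiv.commutes ψ (s : R), ← map_mul, IsLocalization.mk'_spec',
          AlgEquiv.commutes, algebraMap_smul] }
  haveI : Module.Finite B MB := Module.Finite.of_isLocalizedModule S m
  haveI : Module.Finite L (LocalizedModule P'.primeCompl MB) := Module.Finite.of_isLocalizedModule P'.primeCompl m'
  exact ⟨E.supportDim_eq, E.depth_eq⟩

/-- Serre's condition at a prime disjoint from `S` follows from the one of the localization at `S` -/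
theorem hasSkAt_of_localization {k : ℕ} (h : LocCoh.HasSk k (Localization S) (LocalizedModule S M))
    (q : Ideal R) [q.IsPrime] (hq : Disjoint (S : Set R) (q : Set R)) : EGA4.HasSkAt k R M q := by
  rw [Groth.L06.SkTensor.hasSkAt_iff]
  intro P hP hPq
  have hd : Disjoint (S : Set R) (P : Set R) := hq.mono_right hPq
  let P' := P.map (algebraMap R (Localization S))
  haveI : P'.IsPrime := IsLocalization.isPrime_of_isPrime_disjoint S (Localization S) P hP hd
  obtain ⟨h1, h2⟩ := invariants_localized S M P' P
    (IsLocalization.comap_map_of_isPrime_disjoint S (Localization S) hP hd)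
  rw [← h1, ← h2]
  exact h P'

/-- a prime of the support disjoint from `S` -/
theorem nontrivial_of_mem_support (q : PrimeSpectrum R) (hq : Disjoint (S : Set R) (q.asIdeal : Set R))
    (h : q ∈ Module.support R M) : Nontrivial (LocalizedModule S M) := by
  rw [Module.mem_support_iff'] at h
  obtain ⟨m, hm⟩ := h
  refine ⟨LocalizedModule.mk m 1, 0, fun h0 => ?_⟩
  obtain ⟨t, ht⟩ := LocalizedModule.mk_eq.1 (h0.trans (LocalizedModule.zero_mk (1 : S)).symm)
  exact hm (t : R) (Set.disjoint_left.1 hq t.2) (by simpa [Submonoid.smul_def] using ht)

end Groth.Lead.CMPoint
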